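import Cfsg.Prelude.Def_LieTwisted
import Cfsg.Agent.Lib.Lead.ChevFieldAut
import Cfsg.Agent.Lib.Helper5.Chev.Groups
import Mathlib

/-!
# Field automorphisms of the twisted groups (helper8)

For a set `S` of words stable under the field automorphisms, the entrywise action of `Aut K` on
`GL` restricts to a homomorphism `Aut K →* MulAut (D.genSubgroup K S)`.  Instances: `³D₄`, `²E₆`.
-/

set_option autoImplicit false

namespace Cfsg.Agent.Lib.Helper8.FA

open Cfsg.Lie Cfsg.Agent.ChevAut Cfsg.Agent.Lib.Helper5.Chev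
open scoped Matrix

variable {K : Type*} [Field K] (D : ChevalleyDatum)

/-- a field automorphism applied to the parameters of a word -/
def mapWord (ψ : K ≃+* K) (w : List (ℕ × K)) : List (ℕ × K) := w.map fun p => (p.1, ψ p.2)

theorem wordMat_map (ψ : K ≃+* K) (w : List (ℕ × K)) :
    (D.wordMat K w).map ψ = D.wordMat K (mapWord ψ w) := by
  unfold ChevalleyDatum.wordMat mapWord
  induction w with
  | nil =>
    ext i j
    simp [Matrix.map_apply, Matrix.one_apply]
  | cons p w ih =>
    rw [List.map_cons, List.prod_cons, List.map_cons, List.map_cons, List.prod_cons,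
      Matrix.map_mul, ih, x_map]

/-- the two general linear maps agree -/
theorem glMap_eq_map (ψ : K ≃+* K) (g : GL D.Idx K) :
    glMap D ψ g = Matrix.GeneralLinearGroup.map (ψ : K →+* K) g := by
  apply Units.ext
  rfl

/-- the image of a root element -/
theorem map_xU (hadd : AllAdd K D) (ψ : K ≃+* K) (r : ℕ) (t : K) :
    Matrix.GeneralLinearGroup.map (ψ : K →+* K) (hadd.xU r t) = hadd.xU r (ψ t) := by
  apply Units.ext
  show ((hadd.xU r t : GL D.Idx K) : Matrix D.Idx D.Idx K).map ψ = _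
  rw [AllAdd.xU_val, AllAdd.xU_val, x_map]

theorem glMap_xU (hadd : AllAdd K D) (ψ : K ≃+* K) (r : ℕ) (t : K) :
    glMap D ψ (hadd.xU r t) = hadd.xU r (ψ t) := by
  rw [glMap_eq_map, map_xU]

/-- the image of a word -/
theorem map_wordU (hadd : AllAdd K D) (ψ : K ≃+* K) (w : List (ℕ × K)) :
    Matrix.GeneralLinearGroup.map (ψ : K →+* K) (hadd.wordU w) = hadd.wordU (mapWord ψ w) := by
  apply Units.ext
  show ((hadd.wordU w : GL D.Idx K) : Matrix D.Idx D.Idx K).map ψ = _
  rw [AllAdd.wordU_val, AllAdd.wordU_val, wordMat_map]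

/-- a set of words stable under the field automorphisms -/
def WordsStable (S : Set (List (ℕ × K))) : Prop := ∀ (ψ : K ≃+* K), ∀ w ∈ S, mapWord ψ w ∈ S

variable {D}

theorem glMap_mem_genSubgroup {S : Set (List (ℕ × K))} (hS : WordsStable S) (ψ : K ≃+* K)
    {g : GL D.Idx K} (hg : g ∈ D.genSubgroup K S) : glMap D ψ g ∈ D.genSubgroup K S := by
  unfold ChevalleyDatum.genSubgroup at hg ⊢
  induction hg using Subgroup.closure_induction with
  | mem x hx =>
    obtain ⟨w, hw, hx⟩ := hx
    apply Subgroup.subset_closure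
    refine ⟨mapWord ψ w, hS ψ w hw, ?_⟩
    rw [glMap_val, hx, wordMat_map]
  | one => rw [map_one]; exact Subgroup.one_mem _
  | mul x y _ _ hx hy => rw [map_mul]; exact Subgroup.mul_mem _ hx hy
  | inv x _ hx => rw [map_inv]; exact Subgroup.inv_mem _ hx

/-- the automorphism of the generated subgroup attached to a field automorphism -/
noncomputable def genAut {S : Set (List (ℕ × K))} (hS : WordsStable S) (ψ : K ≃+* K) :
    ↥(D.genSubgroup K S) ≃* ↥(D.genSubgroup K S) where
  toFun g := ⟨glMap D ψ g, glMap_mem_genSubgroup hS ψ g.2⟩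
  invFun g := ⟨glMap D ψ.symm g, glMap_mem_genSubgroup hS ψ.symm g.2⟩
  left_inv g := by
    apply Subtype.ext
    apply Units.ext
    ext i j
    simp [glMap_val]
  right_inv g := by
    apply Subtype.ext
    apply Units.ext
    ext i j
    simp [glMap_val]
  map_mul' a b := by
    apply Subtype.ext
    simp

theorem genAut_val {S : Set (List (ℕ × K))} (hS : WordsStable S) (ψ : K ≃+* K)
    (g : ↥(D.genSubgroup K S)) :
    ((genAut hS ψ g : ↥(D.genSubgroup K S)) : GL D.Idx K)
      = Matrix.GeneralLinearGroup.map (ψ : K →+* K) (g : GL D.Idx K) :=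
  glMap_eq_map D ψ g

theorem genAut_mat {S : Set (List (ℕ × K))} (hS : WordsStable S) (ψ : K ≃+* K)
    (g : ↥(D.genSubgroup K S)) :
    (((genAut hS ψ g : ↥(D.genSubgroup K S)) : GL D.Idx K) : Matrix D.Idx D.Idx K)
      = ((g : GL D.Idx K) : Matrix D.Idx D.Idx K).map ψ := rfl

/-- `ψ ↦ genAut ψ` as a homomorphism -/
noncomputable def genAutHom {S : Set (List (ℕ × K))} (hS : WordsStable S) :
    (K ≃+* K) →* MulAut ↥(D.genSubgroup K S) where
  toFun ψ := genAut hS ψ
  map_one' := by
    apply MulEquiv.ext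
    intro g
    apply Subtype.ext
    apply Units.ext
    rw [genAut_mat]
    ext i j
    simp
  map_mul' σ τ := by
    apply MulEquiv.ext
    intro g
    apply Subtype.ext
    apply Units.ext
    rw [MulAut.mul_apply, genAut_mat, genAut_mat, genAut_mat]
    ext i j
    simp

theorem genAutHom_apply {S : Set (List (ℕ × K))} (hS : WordsStable S) (ψ : K ≃+* K) :
    genAutHom (D := D) hS ψ = genAut hS ψ := rfl

/-! ### the two instances -/

theorem d4Words_stable (q : ℕ) : WordsStable (d4Words K q) := by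
  intro ψ w hw
  rcases hw with ⟨t, ht, r, hr, rfl⟩ | ⟨t, rs, hrs, rfl⟩
  · left
    refine ⟨ψ t, ?_, r, hr, rfl⟩
    rw [← map_pow, ht]
  · right
    refine ⟨ψ t, rs, hrs, ?_⟩
    simp [mapWord, map_pow]

theorem e6Words_stable (q : ℕ) : WordsStable (e6Words K q) := by
  intro ψ w hw
  rcases hw with ⟨t, ht, r, hr, rfl⟩ | ⟨t, rs, hrs, rfl⟩
  · left
    refine ⟨ψ t, ?_, r, hr, rfl⟩
    rw [← map_pow, ht]
  · right
    refine ⟨ψ t, rs, hrs, ?_⟩
    simp [mapWord, map_pow]

/-- the field automorphisms of `³D₄(q)` -/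
noncomputable def fieldAutQ (K : Type*) [Field K] (q : ℕ) :
    (K ≃+* K) →* MulAut ↥(twistedD4 K q) :=
  genAutHom (D := chevD4) (d4Words_stable (K := K) q)

theorem fieldAutQ_val (q : ℕ) (ψ : K ≃+* K) (g : ↥(twistedD4 K q)) :
    ((fieldAutQ K q ψ g : ↥(twistedD4 K q)) : GL chevD4.Idx K)
      = Matrix.GeneralLinearGroup.map (ψ : K →+* K) (g : GL chevD4.Idx K) :=
  genAut_val (D := chevD4) (d4Words_stable (K := K) q) ψ g

theorem fieldAutQ_mat (q : ℕ) (ψ : K ≃+* K) (g : ↥(twistedD4 K q)) :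
    (((fieldAutQ K q ψ g : ↥(twistedD4 K q)) : GL chevD4.Idx K) : Matrix chevD4.Idx chevD4.Idx K)
      = ((g : GL chevD4.Idx K) : Matrix chevD4.Idx chevD4.Idx K).map ψ := rfl

/-- the field automorphisms of `²E₆(q)` -/
noncomputable def fieldAutQE6 (K : Type*) [Field K] (q : ℕ) :
    (K ≃+* K) →* MulAut ↥(twistedE6 K q) :=
  genAutHom (D := chevE6) (e6Words_stable (K := K) q)

theorem fieldAutQE6_val (q : ℕ) (ψ : K ≃+* K) (g : ↥(twistedE6 K q)) :
    ((fieldAutQE6 K q ψ g : ↥(twistedE6 K q)) : GL chevE6.Idx K)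
      = Matrix.GeneralLinearGroup.map (ψ : K →+* K) (g : GL chevE6.Idx K) :=
  genAut_val (D := chevE6) (e6Words_stable (K := K) q) ψ g

theorem fieldAutQE6_mat (q : ℕ) (ψ : K ≃+* K) (g : ↥(twistedE6 K q)) :
    (((fieldAutQE6 K q ψ g : ↥(twistedE6 K q)) : GL chevE6.Idx K) : Matrix chevE6.Idx chevE6.Idx K)
      = ((g : GL chevE6.Idx K) : Matrix chevE6.Idx chevE6.Idx K).map ψ := rfl

end Cfsg.Agent.Lib.Helper8.FA
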