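import Cfsg.Prelude.Def_KGroupFacts
import Mathlib

/-!
# The order of the outer automorphism group from a split description (helper8)

If every automorphism is an inner automorphism times `F a` for a homomorphism `F : A →* MulAut G`,
and `F a` is inner only for `a = 1`, then `Out G` has the order of `A`.
-/

set_option autoImplicit false

namespace Cfsg.Agent.Lib.Helper8.FA

/-- the homomorphism `A → Out G` induced by `F` -/
noncomputable def outOf {G A : Type*} [Group G] [Group A] (F : A →* MulAut G) : A →* Cfsg.Out G :=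
  (QuotientGroup.mk' (Cfsg.Inn G)).comp F

theorem outOf_bijective {G A : Type*} [Group G] [Group A] (F : A →* MulAut G)
    (hsurj : ∀ th : MulAut G, ∃ (x : G) (a : A), th = MulAut.conj x * F a)
    (hinj : ∀ a, F a ∈ Cfsg.Inn G → a = 1) : Function.Bijective (outOf F) := by
  constructor
  · rw [injective_iff_map_eq_one]
    intro a ha
    apply hinj
    have : (QuotientGroup.mk (F a) : Cfsg.Out G) = 1 := ha
    exact (QuotientGroup.eq_one_iff _).1 this
  · intro z
    obtain ⟨th, rfl⟩ := QuotientGroup.mk_surjective z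
    obtain ⟨x, a, rfl⟩ := hsurj th
    refine ⟨a, ?_⟩
    show (QuotientGroup.mk (F a) : Cfsg.Out G) = QuotientGroup.mk (MulAut.conj x * F a)
    rw [QuotientGroup.mk_mul]
    have : (QuotientGroup.mk (MulAut.conj x) : Cfsg.Out G) = 1 :=
      (QuotientGroup.eq_one_iff _).2 ⟨x, rfl⟩
    rw [this, one_mul]

/-- the order of `Out G` -/
theorem card_out_of_split {G A : Type*} [Group G] [Group A] (F : A →* MulAut G)
    (hsurj : ∀ th : MulAut G, ∃ (x : G) (a : A), th = MulAut.conj x * F a)
    (hinj : ∀ a, F a ∈ Cfsg.Inn G → a = 1) : Nat.card (Cfsg.Out G) = Nat.card A :=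
  (Nat.card_congr (Equiv.ofBijective _ (outOf_bijective F hsurj hinj))).symm

/-- `Out G` is isomorphic to `A` -/
noncomputable def outEquivOfSplit {G A : Type*} [Group G] [Group A] (F : A →* MulAut G)
    (hsurj : ∀ th : MulAut G, ∃ (x : G) (a : A), th = MulAut.conj x * F a)
    (hinj : ∀ a, F a ∈ Cfsg.Inn G → a = 1) : A ≃* Cfsg.Out G :=
  MulEquiv.ofBijective (outOf F) (outOf_bijective F hsurj hinj)

end Cfsg.Agent.Lib.Helper8.FA
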